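import Cfsg.Agent.Lib.TwoGroupAct.SquareIndex
import Cfsg.Agent.Lib.PGroup.Basic
import Cfsg.Agent.S0016
import Mathlib.GroupTheory.SpecificGroups.Cyclic
import Mathlib.GroupTheory.Exponent
import Mathlib.Tactic.NormNum.Prime

/-!
# A 2-group acting faithfully on an abelian group of odd order

The index of the subgroup generated by the squares is at most half the order of the group acted on,
except for the group of order three.
-/

set_option autoImplicit false

universe u

open scoped commutatorElement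

namespace CfsgLib.TwoGroupAct

/-- The bound to be proved. -/
def Bound (a g : ℕ) : Prop := (a = 3 ∧ g ≤ 2) ∨ 2 * g ≤ a

theorem Bound.mono {a g g' : ℕ} (h : Bound a g) (hg : g' ≤ g) : Bound a g' := by
  unfold Bound at *; omega

theorem Bound.lt {a g : ℕ} (h : Bound a g) (ha : 1 < a) : g ≤ a - 1 := by
  unfold Bound at *; omega

theorem Bound.mul {a b g h : ℕ} (ha : Bound a g) (hb : Bound b h) (ha3 : 3 ≤ a) (hb3 : 3 ≤ b) :
    Bound (a * b) (g * h) := by
  right
  rcases ha with ⟨rfl, hg⟩ | hg <;> rcases hb with ⟨rfl, hh⟩ | hh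
  · calc 2 * (g * h) ≤ 2 * (2 * 2) := Nat.mul_le_mul_left 2 (Nat.mul_le_mul hg hh)
      _ ≤ 3 * 3 := by norm_num
  · calc 2 * (g * h) = g * (2 * h) := by ring
      _ ≤ 2 * b := Nat.mul_le_mul hg hh
      _ ≤ 3 * b := by omega
  · calc 2 * (g * h) = (2 * g) * h := by ring
      _ ≤ a * 2 := Nat.mul_le_mul hg hh
      _ ≤ a * 3 := by omega
  · calc 2 * (g * h) ≤ (2 * g) * (2 * h) := by
          rw [show (2 * g) * (2 * h) = 2 * (2 * (g * h)) by ring]; omega
      _ ≤ a * b := Nat.mul_le_mul hg hh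

theorem Bound.swap {a g h : ℕ} (ha : Bound a g) (hb : Bound a h) (ha3 : a ≠ 3) :
    Bound (a * a) (2 * (g * h)) := by
  right
  rcases ha with ⟨rfl, -⟩ | hg
  · exact absurd rfl ha3
  rcases hb with ⟨rfl, -⟩ | hh
  · exact absurd rfl ha3
  calc 2 * (2 * (g * h)) = (2 * g) * (2 * h) := by ring
    _ ≤ a * a := Nat.mul_le_mul hg hh

section

variable {V : Type u} [CommGroup V] [Finite V]

omit [Finite V] in
theorem mulAut_ext_of_closure {s t : MulAut V} (S : Set V) (hS : Subgroup.closure S = ⊤)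
    (h : ∀ v ∈ S, s v = t v) : s = t := by
  ext v
  exact MonoidHom.eqOn_closure (f := s.toMonoidHom) (g := t.toMonoidHom) h (hS ▸ Subgroup.mem_top v)

omit [Finite V] in
/-- Restriction of an automorphism to an invariant subgroup. -/
def restrictHom (T : Subgroup (MulAut V)) (W : Subgroup V) (hW : ∀ t ∈ T, ∀ w ∈ W, t w ∈ W) :
    T →* MulAut W where
  toFun t :=
    { toFun := fun w => ⟨(t : MulAut V) (w : V), hW t t.2 w w.2⟩
      invFun := fun w => ⟨((t⁻¹ : T) : MulAut V) (w : V), hW _ (t⁻¹ : T).2 w w.2⟩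
      left_inv := fun w => Subtype.ext ((t : MulAut V).symm_apply_apply w)
      right_inv := fun w => Subtype.ext ((t : MulAut V).apply_symm_apply w)
      map_mul' := fun a b => Subtype.ext (map_mul (t : MulAut V) (a : V) (b : V)) }
  map_one' := MulEquiv.ext fun _ => Subtype.ext rfl
  map_mul' _ _ := MulEquiv.ext fun _ => Subtype.ext rfl

/-- The statement proved by induction on the order. -/
def Stmt (a : ℕ) : Prop :=
  ∀ (W : Type u) [CommGroup W] [Finite W], Odd (Nat.card W) → 1 < Nat.card W → Nat.card W = a →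
    ∀ T : Subgroup (MulAut W), IsPGroup 2 T → Bound a (sqSub T).index

theorem bound_of_split (T : Subgroup (MulAut V)) (hT : IsPGroup 2 T) (hodd : Odd (Nat.card V))
    (IH : ∀ b < Nat.card V, Stmt.{u} b)
    (W₁ W₂ : Subgroup V) (hd : W₁ ⊓ W₂ = ⊥) (hs : W₁ ⊔ W₂ = ⊤) (h1 : W₁ ≠ ⊥) (h2 : W₂ ≠ ⊥)
    (hi1 : ∀ t ∈ T, ∀ w ∈ W₁, t w ∈ W₁) (hi2 : ∀ t ∈ T, ∀ w ∈ W₂, t w ∈ W₂) :
    ∃ g₁ g₂ : ℕ, (sqSub T).index ≤ g₁ * g₂ ∧ Bound (Nat.card W₁) g₁ ∧ Bound (Nat.card W₂) g₂ ∧
      3 ≤ Nat.card W₁ ∧ 3 ≤ Nat.card W₂ ∧ Nat.card W₁ * Nat.card W₂ = Nat.card V := by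
  have hmul : Nat.card W₁ * Nat.card W₂ = Nat.card V := by
    have := Subgroup.relIndex_mul_relIndex ⊥ W₁ (W₁ ⊔ W₂) bot_le le_sup_left
    rw [Subgroup.relIndex_bot_left, Subgroup.relIndex_bot_left, Subgroup.relIndex_sup_left,
      ← Subgroup.inf_relIndex_right, hd, Subgroup.relIndex_bot_left, hs, Subgroup.card_top] at this
    exact this
  have hge : ∀ W : Subgroup V, W ≠ ⊥ → 3 ≤ Nat.card W := by
    intro W hW
    obtain ⟨k, hk⟩ := hodd.of_dvd_nat W.card_subgroup_dvd_card
    have := (Subgroup.one_lt_card_iff_ne_bot W).2 hW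
    omega
  have a1 := hge W₁ h1
  have a2 := hge W₂ h2
  have lt1 : Nat.card W₁ < Nat.card V := by
    rw [← hmul]; exact lt_mul_of_one_lt_right (by omega) (by omega)
  have lt2 : Nat.card W₂ < Nat.card V := by
    rw [← hmul]; exact lt_mul_of_one_lt_left (by omega) (by omega)
  set f₁ := restrictHom T W₁ hi1
  set f₂ := restrictHom T W₂ hi2
  set f₂' := f₂.comp f₁.ker.subtype with hf₂'
  have hinj : Function.Injective f₂' := by
    rw [← MonoidHom.ker_eq_bot_iff, eq_bot_iff]
    intro k hk
    rw [MonoidHom.mem_ker] at hk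
    rw [Subgroup.mem_bot]
    refine Subtype.ext (Subtype.ext (mulAut_ext_of_closure ((W₁ : Set V) ∪ W₂) ?_ ?_))
    · rw [Subgroup.closure_union, Subgroup.closure_eq, Subgroup.closure_eq, hs]
    · rintro v (hv | hv)
      · exact congrArg Subtype.val (DFunLike.congr_fun k.2 ⟨v, hv⟩)
      · exact congrArg Subtype.val (DFunLike.congr_fun hk ⟨v, hv⟩)
  refine ⟨(sqSub f₁.range).index, (sqSub f₂'.range).index, ?_, ?_, ?_, a1, a2, hmul⟩
  · rw [← index_sqSub_congr (MonoidHom.ofInjective hinj)]
    exact index_sqSub_le_ker_mul_range f₁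
  · exact IH _ lt1 W₁ (hodd.of_dvd_nat W₁.card_subgroup_dvd_card) (by omega) rfl _
      (hT.of_surjective f₁.rangeRestrict f₁.rangeRestrict_surjective)
  · exact IH _ lt2 W₂ (hodd.of_dvd_nat W₂.card_subgroup_dvd_card) (by omega) rfl _
      ((hT.to_subgroup f₁.ker).of_surjective f₂'.rangeRestrict f₂'.rangeRestrict_surjective)

omit [Finite V] in
/-- The fixed points of an automorphism. -/
def plusPart (t : MulAut V) : Subgroup V where
  carrier := {v | t v = v}
  one_mem' := map_one t
  mul_mem' := fun {a b} ha hb => by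
    simp only [Set.mem_ofPred_eq] at *; rw [map_mul, ha, hb]
  inv_mem' := fun {a} ha => by
    simp only [Set.mem_ofPred_eq] at *; rw [map_inv, ha]

omit [Finite V] in
/-- The inverted points of an automorphism. -/
def minusPart (t : MulAut V) : Subgroup V where
  carrier := {v | t v = v⁻¹}
  one_mem' := by simp
  mul_mem' := fun {a b} ha hb => by
    simp only [Set.mem_ofPred_eq] at *; rw [map_mul, ha, hb, mul_inv]
  inv_mem' := fun {a} ha => by
    simp only [Set.mem_ofPred_eq] at *; rw [map_inv, ha]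

theorem eq_one_of_sq (hodd : Odd (Nat.card V)) (v : V) (hv : v ^ 2 = 1) : v = 1 := by
  rw [← orderOf_eq_one_iff]
  exact Nat.eq_one_of_dvd_coprimes (Nat.coprime_two_left.2 hodd) (orderOf_dvd_of_pow_eq_one hv)
    (orderOf_dvd_natCard v)

theorem plus_minus (hodd : Odd (Nat.card V)) (t : MulAut V) (ht : ∀ v, t (t v) = v) :
    plusPart t ⊓ minusPart t = ⊥ ∧ plusPart t ⊔ minusPart t = ⊤ := by
  constructor
  · rw [eq_bot_iff]
    rintro v ⟨h1 : t v = v, h2 : t v = v⁻¹⟩
    rw [Subgroup.mem_bot]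
    exact eq_one_of_sq hodd v (by rw [pow_two]; nth_rw 1 [← h1, h2]; exact inv_mul_cancel v)
  · rw [eq_top_iff]
    intro v _
    obtain ⟨k, hk⟩ := hodd
    set w := v ^ (k + 1) with hw
    have hvw : v = (w * t w) * (w * (t w)⁻¹) := by
      rw [show (w * t w) * (w * (t w)⁻¹) = w * w * (t w * (t w)⁻¹) by
        rw [mul_mul_mul_comm], mul_inv_cancel, mul_one, hw, ← pow_add,
        show k + 1 + (k + 1) = (2 * k + 1) + 1 by ring, pow_succ, ← hk, pow_card_eq_one', one_mul]
    rw [hvw]
    refine Subgroup.mul_mem_sup ?_ ?_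
    · show t (w * t w) = w * t w
      rw [map_mul, ht, mul_comm]
    · show t (w * (t w)⁻¹) = (w * (t w)⁻¹)⁻¹
      rw [map_mul, map_inv, ht, mul_inv, inv_inv, mul_comm]

omit [Finite V] in
theorem plus_ne_bot (t : MulAut V) (ht : ∀ v, t (t v) = v) (hne : ¬ ∀ v, t v = v⁻¹) :
    plusPart t ≠ ⊥ := by
  intro h
  apply hne
  intro v
  have h1 : v * t v ∈ plusPart t := by
    show t (v * t v) = v * t v
    rw [map_mul, ht, mul_comm]
  rw [h, Subgroup.mem_bot] at h1
  exact eq_inv_of_mul_eq_one_right h1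

omit [Finite V] in
theorem minus_ne_bot (t : MulAut V) (ht : ∀ v, t (t v) = v) (hne : t ≠ 1) :
    minusPart t ≠ ⊥ := by
  intro h
  apply hne
  ext v
  have h1 : v * (t v)⁻¹ ∈ minusPart t := by
    show t (v * (t v)⁻¹) = (v * (t v)⁻¹)⁻¹
    rw [map_mul, map_inv, ht, mul_inv, inv_inv, mul_comm]
  rw [h, Subgroup.mem_bot] at h1
  exact (mul_inv_eq_one.1 h1).symm

/-- An involution, other than inversion, commuting with the whole group. -/
theorem bound_of_involution (T : Subgroup (MulAut V)) (hT : IsPGroup 2 T) (hodd : Odd (Nat.card V))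
    (IH : ∀ b < Nat.card V, Stmt.{u} b)
    (t : MulAut V) (ht : ∀ v, t (t v) = v) (ht1 : t ≠ 1) (htz : ¬ ∀ v, t v = v⁻¹)
    (hc : ∀ s ∈ T, s * t = t * s) :
    ∃ g₁ g₂ : ℕ, (sqSub T).index ≤ g₁ * g₂ ∧ Bound (Nat.card (plusPart t)) g₁ ∧
      Bound (Nat.card (minusPart t)) g₂ ∧ 3 ≤ Nat.card (plusPart t) ∧
      3 ≤ Nat.card (minusPart t) ∧
      Nat.card (plusPart t) * Nat.card (minusPart t) = Nat.card V := by
  obtain ⟨hd, hs⟩ := plus_minus hodd t ht
  refine bound_of_split T hT hodd IH _ _ hd hs (plus_ne_bot t ht htz) (minus_ne_bot t ht ht1) ?_ ?_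
  · intro s hsT w (hw : t w = w)
    show t (s w) = s w
    rw [← MulAut.mul_apply, ← hc s hsT, MulAut.mul_apply, hw]
  · intro s hsT w (hw : t w = w⁻¹)
    show t (s w) = (s w)⁻¹
    rw [← MulAut.mul_apply, ← hc s hsT, MulAut.mul_apply, hw, map_inv]

theorem isCyclic_of_small {a : ℕ} (ha : Nat.card V = a) (h : a = 3 ∨ a = 5 ∨ a = 7 ∨ a = 11 ∨
    a = 13 ∨ a = 15) : IsCyclic V := by
  rcases h with rfl | rfl | rfl | rfl | rfl | rfl
  case inr.inr.inr.inr.inr =>
    haveI : Fact (Nat.Prime 3) := ⟨Nat.prime_three⟩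
    haveI : Fact (Nat.Prime 5) := ⟨Nat.prime_five⟩
    obtain ⟨x, hx⟩ := exists_prime_orderOf_dvd_card' (G := V) 3 (by rw [ha]; norm_num)
    obtain ⟨y, hy⟩ := exists_prime_orderOf_dvd_card' (G := V) 5 (by rw [ha]; norm_num)
    refine isCyclic_of_orderOf_eq_card (x * y) ?_
    rw [(Commute.all x y).orderOf_mul_eq_mul_orderOf_of_coprime (by rw [hx, hy]; norm_num), hx, hy, ha]
  all_goals
    haveI := Fact.mk (show Nat.Prime (Nat.card V) by rw [ha]; norm_num)
    exact isCyclic_of_prime_card (p := Nat.card V) rfl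

omit [Finite V] in
theorem mulAut_comm_of_cyclic {A : Type*} [Group A] [IsCyclic A] (σ τ : MulAut A) : σ * τ = τ * σ := by
  obtain ⟨g, hg⟩ := IsCyclic.exists_generator (α := A)
  obtain ⟨i, hi⟩ := Subgroup.mem_zpowers_iff.1 (hg (σ g))
  obtain ⟨j, hj⟩ := Subgroup.mem_zpowers_iff.1 (hg (τ g))
  ext x
  obtain ⟨k, rfl⟩ := Subgroup.mem_zpowers_iff.1 (hg x)
  rw [map_zpow, map_zpow, MulAut.mul_apply, MulAut.mul_apply, ← hj, map_zpow, ← hi, map_zpow, ← hj]
  simp only [← zpow_mul]
  ring_nf

omit [Finite V] in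
theorem sq_mulAut_cyclic_le_four {A : Type*} [Group A] [Finite A] [IsCyclic A] (hA : IsPGroup 2 A) :
    Nat.card {σ : MulAut A // σ ^ 2 = 1} ≤ 4 := by
  classical
  haveI : Fact (Nat.Prime 2) := ⟨Nat.prime_two⟩
  obtain ⟨g, hg⟩ := IsCyclic.exists_generator (α := A)
  obtain ⟨n, hn⟩ := IsPGroup.iff_card.1 hA
  have hord : orderOf g = 2 ^ n := by
    rw [← hn]; exact orderOf_eq_card_of_forall_mem_zpowers hg
  set h := g ^ ((2 ^ (n - 1) : ℕ) : ℤ)
  let f : {σ : MulAut A // σ ^ 2 = 1} → ({g, g⁻¹, g * h, g⁻¹ * h} : Finset A) := fun σ => ⟨σ.1 g, by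
    obtain ⟨k, hk⟩ := Subgroup.mem_zpowers_iff.1 (hg (σ.1 g))
    have h2 : σ.1 (σ.1 g) = g := by
      rw [← MulAut.mul_apply, ← pow_two, σ.2]; rfl
    rw [← hk, map_zpow, ← hk, ← zpow_mul, ← mul_inv_eq_one] at h2
    have hdvd : ((2 ^ n : ℕ) : ℤ) ∣ k * k - 1 := by
      rw [← hord, orderOf_dvd_iff_zpow_eq_one, zpow_sub, zpow_one]
      exact h2
    rcases Nat.lt_or_ge n 2 with hn2 | hn2
    · -- only one automorphism
      rcases (by omega : n = 0 ∨ n = 1) with rfl | rfl
      · have : g = 1 := orderOf_eq_one_iff.1 hord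
        simp [this]
      · have hk2 : (2 : ℤ) ∣ k - 1 := by
          have : (2 : ℤ) ∣ k * k - 1 := by simpa using hdvd
          rcases Int.even_or_odd k with ⟨m, rfl⟩ | ⟨m, rfl⟩
          · exfalso; rw [show (m + m) * (m + m) - 1 = 2 * (2 * m * m) - 1 by ring] at this; omega
          · exact ⟨m, by ring⟩
        obtain ⟨m, hm⟩ := hk2
        have : g ^ k = g := by
          rw [show k = (2 : ℤ) * m + 1 by omega, zpow_add, zpow_mul, zpow_one,
            show g ^ (2 : ℤ) = 1 by
              rw [show (2 : ℤ) = ((2 : ℕ) : ℤ) by rfl, zpow_natCast, show 2 = orderOf g by rw [hord, pow_one],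
                pow_orderOf_eq_one], one_zpow, one_mul]
        simp [← hk, this]
    · have hpn : (2 : ℤ) ^ n = 2 * (2 : ℤ) ^ (n - 1) := by rw [← pow_succ']; congr 1; omega
      rcases Int.even_or_odd k with ⟨m, rfl⟩ | ⟨m, rfl⟩
      · exfalso
        have : (2 : ℤ) ∣ (m + m) * (m + m) - 1 :=
          (dvd_trans ⟨(2 : ℤ) ^ (n - 1), by push_cast; exact hpn⟩ hdvd)
        rw [show (m + m) * (m + m) - 1 = 2 * (2 * m * m) - 1 by ring] at this
        omega
      · push_cast at hdvd
        rw [show (2 * m + 1) * (2 * m + 1) - 1 = 4 * (m * (m + 1)) by ring] at hdvd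
        have hpn2 : (2 : ℤ) ^ n = 4 * (2 : ℤ) ^ (n - 2) := by
          rw [show (4 : ℤ) = 2 ^ 2 by norm_num, ← pow_add]; congr 1; omega
        rw [hpn2] at hdvd
        have hd2 : (2 : ℤ) ^ (n - 2) ∣ m * (m + 1) := (mul_dvd_mul_iff_left (by norm_num : (4 : ℤ) ≠ 0)).1 hdvd
        have hcop : ∀ x : ℤ, Odd x → IsCoprime ((2 : ℤ) ^ (n - 2)) x := fun x ⟨y, hy⟩ =>
          IsCoprime.pow_left ⟨-y, 1, by rw [hy]; ring⟩
        have hpn1 : (2 : ℤ) ^ (n - 1) = 2 * (2 : ℤ) ^ (n - 2) := by rw [← pow_succ']; congr 1; omega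
        have hh : ∀ j : ℤ, g ^ ((2 : ℤ) ^ (n - 1) * j) = 1 ∨ g ^ ((2 : ℤ) ^ (n - 1) * j) = h := by
          intro j
          have hgn : g ^ ((2 : ℤ) ^ n) = 1 := by
            rw [show (2 : ℤ) ^ n = ((2 ^ n : ℕ) : ℤ) by push_cast; rfl, zpow_natCast, ← hord, pow_orderOf_eq_one]
          rcases Int.even_or_odd j with ⟨i, rfl⟩ | ⟨i, rfl⟩
          · left
            rw [show (2 : ℤ) ^ (n - 1) * (i + i) = (2 : ℤ) ^ n * i by rw [hpn]; ring, zpow_mul, hgn, one_zpow]
          · right
            rw [show (2 : ℤ) ^ (n - 1) * (2 * i + 1) = (2 : ℤ) ^ n * i + (2 : ℤ) ^ (n - 1) by rw [hpn]; ring,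
              zpow_add, zpow_mul, hgn, one_zpow, one_mul]
            show _ = g ^ ((2 ^ (n - 1) : ℕ) : ℤ)
            push_cast; rfl
        rw [Finset.mem_insert, Finset.mem_insert, Finset.mem_insert, Finset.mem_singleton, ← hk]
        rcases Int.even_or_odd m with he | ho
        · obtain ⟨j, hj⟩ := (hcop _ (Even.add_one he)).dvd_of_dvd_mul_right hd2
          rw [show 2 * m + 1 = (2 : ℤ) ^ (n - 1) * j + 1 by rw [hj, hpn1]; ring, zpow_add, zpow_one]
          rcases hh j with e | e <;> rw [e]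
          · left; rw [one_mul]
          · right; right; left
            exact (Commute.zpow_self g _).eq
        · obtain ⟨j, hj⟩ := (hcop _ ho).dvd_of_dvd_mul_left hd2
          rw [show 2 * m + 1 = -1 + (2 : ℤ) ^ (n - 1) * j by
            rw [show m = (2 : ℤ) ^ (n - 2) * j - 1 by omega, hpn1]; ring, zpow_add, zpow_neg_one]
          rcases hh j with e | e <;> rw [e]
          · right; left; rw [mul_one]
          · right; right; right; rfl⟩
  have hf : Function.Injective f := by
    intro σ τ e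
    apply Subtype.ext
    ext x
    obtain ⟨i, rfl⟩ := Subgroup.mem_zpowers_iff.1 (hg x)
    rw [map_zpow, map_zpow, show σ.1 g = τ.1 g from congrArg Subtype.val e]
  refine (Nat.card_le_card_of_injective f hf).trans ?_
  rw [Nat.card_eq_fintype_card, Fintype.card_coe]
  exact Finset.card_le_four

theorem index_sqSub_comm_le {T : Type*} [Group T] [Finite T] (hc : ∀ a b : T, a * b = b * a) :
    (sqSub T).index ≤ Nat.card {x : T // x ^ 2 = 1} := by
  let f : T →* T :=
    { toFun := fun x => x ^ 2, map_one' := one_pow 2, map_mul' := fun a b => Commute.mul_pow (hc a b) 2 }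
  have h : f.range = sqSub T := by
    refine le_antisymm ?_ ((Subgroup.closure_le _).2 ?_)
    · rintro _ ⟨x, rfl⟩; exact sq_mem_sqSub x
    · rintro _ ⟨x, rfl⟩; exact ⟨x, rfl⟩
  have h1 := f.ker.card_eq_card_quotient_mul_card_subgroup
  rw [Nat.card_congr (QuotientGroup.quotientKerEquivRange f).toEquiv, h, ← (sqSub T).card_mul_index] at h1
  rw [Nat.eq_of_mul_eq_mul_left Nat.card_pos h1]
  exact (Nat.card_congr (Equiv.subtypeEquivRight fun x => Iff.rfl)).le

theorem index_sqSub_cyclic_le {A : Type*} [Group A] [Finite A] [IsCyclic A] :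
    (sqSub A).index ≤ 2 := by
  classical
  cases nonempty_fintype A
  refine (index_sqSub_comm_le fun a b => IsCyclic.commGroup.mul_comm a b).trans ?_
  rw [Nat.card_eq_fintype_card, Fintype.card_subtype]
  exact IsCyclic.card_pow_eq_one_le two_pos

omit [Finite V] in
theorem commutator_mem_sqSub {T : Type*} [Group T] (a b : T) : a * b * a⁻¹ * b⁻¹ ∈ sqSub T := by
  have e : a * b * a⁻¹ * b⁻¹ = a ^ 2 * (a⁻¹ * b) ^ 2 * (b⁻¹) ^ 2 := by
    simp only [pow_two]; group
  rw [e]
  exact mul_mem (mul_mem (sq_mem_sqSub _) (sq_mem_sqSub _)) (sq_mem_sqSub _)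

/-- A group of order nine, with no decomposition. -/
theorem bound_nine (h9 : Nat.card V = 9) (hnc : ¬ IsCyclic V) (T : Subgroup (MulAut V)) (hT : IsPGroup 2 T)
    (hna : ¬ ∀ a b : T, a * b = b * a)
    (hcentral : ∀ t : T, t ^ 2 = 1 → (∀ s : T, s * t = t * s) → t ≠ 1 → ∀ v, (t : MulAut V) v = v⁻¹) :
    (sqSub T).index ≤ 4 := by
  classical
  haveI : Fact (Nat.Prime 2) := ⟨Nat.prime_two⟩
  have hexp : ∀ v : V, v ^ 3 = 1 := by
    intro v
    obtain ⟨i, hi, hi'⟩ := (Nat.dvd_prime_pow Nat.prime_three (m := 2)).1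
      ((orderOf_dvd_natCard v).trans (by rw [h9]; norm_num))
    rcases Nat.lt_or_ge i 2 with h | h
    · exact orderOf_dvd_iff_pow_eq_one.1 (hi' ▸ (Nat.pow_dvd_pow 3 (by omega : i ≤ 1)).trans (pow_one 3).dvd)
    · exact absurd (isCyclic_of_orderOf_eq_card v (by rw [hi', show i = 2 by omega, h9]; rfl)) hnc
  have hodd : Odd (Nat.card V) := by rw [h9]; exact ⟨4, rfl⟩
  haveI : Fact (Nat.Prime 3) := ⟨Nat.prime_three⟩
  by_contra hg
  push Not at hg
  obtain ⟨k, hk⟩ := IsPGroup.iff_card.1 hT
  have hgk : (sqSub T).index ∣ 2 ^ k := hk ▸ Subgroup.index_dvd_card _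
  obtain ⟨j, hjk, hj⟩ := (Nat.dvd_prime_pow Nat.prime_two).1 hgk
  have hj3 : 3 ≤ j := by
    by_contra h
    have := Nat.pow_le_pow_right (n := 2) (by norm_num) (by omega : j ≤ 2)
    omega
  have hmulc := (sqSub T).index_mul_card
  -- `T` has order at most sixteen
  have horder : ∀ v : V, v ≠ 1 →
      Nat.card {s : T // (s : MulAut V) v = v} ≤ 2 ∧
      (∀ w ∉ Subgroup.zpowers v, ∀ t : T, (t : MulAut V) v = v → (t : MulAut V) w = w → t = 1) := by
    intro v hv
    have hLcard : Nat.card (Subgroup.zpowers v) = 3 := by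
      rw [Nat.card_zpowers]; exact orderOf_eq_prime (hexp v) hv
    have hgenvw : ∀ w ∉ Subgroup.zpowers v, Subgroup.closure ({v, w} : Set V) = ⊤ := by
      intro w hw
      have hle : Subgroup.zpowers v ≤ Subgroup.closure ({v, w} : Set V) :=
        Subgroup.zpowers_le.2 (Subgroup.subset_closure (Set.mem_insert _ _))
      refine Subgroup.eq_top_of_le_card _ ?_
      have h1 : Nat.card (Subgroup.zpowers v) < Nat.card (Subgroup.closure ({v, w} : Set V)) :=
        lt_of_le_of_ne (Subgroup.card_le_of_le hle) fun e => hw (by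
          rw [Subgroup.eq_of_le_of_card_ge hle e.ge]
          exact Subgroup.subset_closure (Set.mem_insert_of_mem _ rfl))
      obtain ⟨i, hi, hi'⟩ := (Nat.dvd_prime_pow Nat.prime_three (m := 2)).1
        ((Subgroup.closure ({v, w} : Set V)).card_subgroup_dvd_card.trans (by rw [h9]; norm_num))
      rw [hLcard, hi'] at h1
      rw [h9, hi']
      have : 2 ≤ i := by
        by_contra h
        have := Nat.pow_le_pow_right (n := 3) (by norm_num) (by omega : i ≤ 1)
        omega
      calc 9 = 3 ^ 2 := by norm_num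
        _ ≤ 3 ^ i := Nat.pow_le_pow_right (by norm_num) this
    have hfix2 : ∀ w ∉ Subgroup.zpowers v, ∀ t : T, (t : MulAut V) v = v → (t : MulAut V) w = w → t = 1 := by
      intro w hw t htv htw
      refine Subtype.ext (mulAut_ext_of_closure _ (hgenvw w hw) ?_)
      rintro _ (rfl | rfl)
      exacts [htv, htw]
    refine ⟨?_, hfix2⟩
    obtain ⟨w, hw⟩ : ∃ w, w ∉ Subgroup.zpowers v := by
      by_contra h
      push Not at h
      exact hnc ⟨⟨v, h⟩⟩
    -- injection into two classes
    have hkey : ∀ s s' : T, (s : MulAut V) v = v → (s' : MulAut V) v = v →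
        (((s : MulAut V) w)⁻¹ * (s' : MulAut V) w ∈ Subgroup.zpowers v) → s = s' := by
      intro s s' hsv hsv' hmem
      set d := s⁻¹ * s'
      have hdv : (d : MulAut V) v = v := by
        show (s : MulAut V)⁻¹ ((s' : MulAut V) v) = v
        rw [hsv']; nth_rw 1 [← hsv]; exact (s : MulAut V).symm_apply_apply v
      obtain ⟨i, hi⟩ := Subgroup.mem_zpowers_iff.1 hmem
      have hdw : (d : MulAut V) w = w * v ^ i := by
        show (s : MulAut V)⁻¹ ((s' : MulAut V) w) = w * v ^ i
        apply (s : MulAut V).injective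
        rw [show (s : MulAut V) ((s : MulAut V)⁻¹ ((s' : MulAut V) w)) = (s' : MulAut V) w from
          (s : MulAut V).apply_symm_apply _, map_mul, map_zpow, hsv, hi, mul_inv_cancel_left]
      have hd3 : d ^ 3 = 1 := by
        refine hfix2 w hw _ ?_ ?_
        · rw [pow_succ, pow_two]
          simp only [Subgroup.coe_mul, MulAut.mul_apply, hdv]
        · rw [pow_succ, pow_two]
          simp only [Subgroup.coe_mul, MulAut.mul_apply, hdw, map_mul, map_zpow, hdv]
          rw [mul_assoc (w * v ^ i), mul_assoc w, ← mul_assoc (v ^ i), ← zpow_add, ← zpow_add,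
            show i + i + i = (3 : ℤ) * i by ring, zpow_mul,
            show v ^ (3 : ℤ) = 1 by exact_mod_cast hexp v, one_zpow, mul_one]
      obtain ⟨e, he⟩ := hT d
      have : d = 1 := by
        rw [← orderOf_eq_one_iff]
        exact Nat.eq_one_of_dvd_coprimes ((show Nat.Coprime 3 2 by norm_num).pow_right e)
          (orderOf_dvd_of_pow_eq_one hd3) (orderOf_dvd_of_pow_eq_one he)
      exact inv_mul_eq_one.1 this
    let f : {s : T // (s : MulAut V) v = v} → Bool :=
      fun s => decide (w⁻¹ * (s.1 : MulAut V) w ∈ Subgroup.zpowers v)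
    refine (Nat.card_le_card_of_injective f fun s s' e => Subtype.ext (hkey _ _ s.2 s'.2 ?_)).trans (by simp)
    have hnot : ∀ r : {s : T // (s : MulAut V) v = v}, (r.1 : MulAut V) w ∉ Subgroup.zpowers v := by
      intro r hr
      obtain ⟨i, hi⟩ := Subgroup.mem_zpowers_iff.1 hr
      exact hw (Subgroup.mem_zpowers_iff.2 ⟨i, (r.1 : MulAut V).injective (by rw [map_zpow, r.2, hi])⟩)
    have hcls : ∀ r : {s : T // (s : MulAut V) v = v},
        w⁻¹ * (r.1 : MulAut V) w ∈ Subgroup.zpowers v ∨ w * (r.1 : MulAut V) w ∈ Subgroup.zpowers v := by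
      intro r
      set q : V ⧸ Subgroup.zpowers v := ((r.1 : MulAut V) w : V ⧸ Subgroup.zpowers v)
      have hcard : Nat.card (V ⧸ Subgroup.zpowers v) = 3 := by
        have := (Subgroup.zpowers v).card_eq_card_quotient_mul_card_subgroup
        rw [h9, hLcard] at this; omega
      haveI : IsCyclic (V ⧸ Subgroup.zpowers v) := isCyclic_of_prime_card hcard
      set w' : V ⧸ Subgroup.zpowers v := (w : V ⧸ Subgroup.zpowers v) with hw'
      have hw'1 : w' ≠ 1 := fun h => hw ((QuotientGroup.eq_one_iff w).1 h)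
      obtain ⟨i, hi⟩ := Subgroup.mem_zpowers_iff.1
        (mem_zpowers_of_prime_card hcard hw'1 : q ∈ Subgroup.zpowers w')
      have hmod : i % 3 = 0 ∨ i % 3 = 1 ∨ i % 3 = 2 := by omega
      have hw3 : w' ^ (3 : ℤ) = 1 := by
        rw [hw', ← QuotientGroup.mk_zpow, show w ^ (3 : ℤ) = 1 by exact_mod_cast hexp w, QuotientGroup.mk_one]
      have hred : w' ^ i = w' ^ (i % 3) := by
        conv_lhs => rw [show i = i % 3 + 3 * (i / 3) by omega, zpow_add, zpow_mul, hw3, one_zpow, mul_one]
      rw [hred] at hi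
      rcases hmod with e | e | e <;> rw [e] at hi
      · exact absurd ((QuotientGroup.eq_one_iff _).1 (by rw [← zpow_zero w']; exact hi.symm)) (hnot r)
      · left
        rw [zpow_one] at hi
        exact QuotientGroup.eq.1 hi
      · right
        rw [show (2 : ℤ) = -1 + 3 by norm_num, zpow_add, hw3, mul_one, zpow_neg_one] at hi
        rw [hw', ← QuotientGroup.mk_inv] at hi
        have := QuotientGroup.eq.1 hi
        rwa [inv_inv] at this
    have hiff : w⁻¹ * (s.1 : MulAut V) w ∈ Subgroup.zpowers v ↔ w⁻¹ * (s'.1 : MulAut V) w ∈ Subgroup.zpowers v := by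
      simpa [f] using e
    by_cases hm : w⁻¹ * (s.1 : MulAut V) w ∈ Subgroup.zpowers v
    · have := mul_mem (inv_mem hm) (hiff.1 hm)
      rwa [mul_inv_rev, inv_inv, mul_assoc, mul_inv_cancel_left] at this
    · have := mul_mem (inv_mem ((hcls s).resolve_left hm)) ((hcls s').resolve_left (mt hiff.2 hm))
      rwa [mul_inv_rev, mul_assoc, inv_mul_cancel_left] at this
  have horbit : ∀ v : V, v ≠ 1 → Nat.card T ≤ 2 * Nat.card {u : V // ∃ s : T, (s : MulAut V) v = u} := by
    intro v hv
    cases nonempty_fintype T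
    cases nonempty_fintype V
    rw [Nat.card_eq_fintype_card, ← Finset.card_univ,
      Nat.card_congr (Equiv.subtypeEquivRight (fun u => show (∃ s : T, (s : MulAut V) v = u) ↔
        u ∈ Finset.univ.image (fun s : T => (s : MulAut V) v) by simp)), Nat.card_eq_fintype_card, Fintype.card_coe]
    refine Finset.card_le_mul_card_image _ 2 fun u hu => ?_
    obtain ⟨s₀, -, rfl⟩ := Finset.mem_image.1 hu
    refine le_trans ?_ (horder v hv).1
    rw [Nat.card_eq_fintype_card, Fintype.card_subtype]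
    refine Finset.card_le_card_of_injOn (fun s => s₀⁻¹ * s) ?_ fun a _ b _ e => mul_left_cancel e
    intro s hs
    simp only [Finset.coe_filter, Set.mem_ofPred_eq, Finset.mem_univ, true_and] at hs ⊢
    show (s₀ : MulAut V)⁻¹ ((s : MulAut V) v) = v
    rw [hs]; exact (s₀ : MulAut V).symm_apply_apply v
  have hmax : ∀ v : V, v ≠ 1 → Nat.card {u : V // ∃ s : T, (s : MulAut V) v = u} ≤ Nat.card {u : V // u ≠ 1} := by
    intro v hv
    refine Nat.card_le_card_of_injective (fun u => (⟨u.1, ?_⟩ : {u : V // u ≠ 1})) fun a b e => Subtype.ext (by simpa using e)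
    obtain ⟨s, hs⟩ := u.2
    intro h
    exact hv ((s : MulAut V).injective (by rw [hs, h, map_one]))
  have h8 : Nat.card {u : V // u ≠ 1} = 8 := by
    cases nonempty_fintype V
    rw [Nat.card_eq_fintype_card, Fintype.card_subtype_compl, Fintype.card_subtype_eq, ← Nat.card_eq_fintype_card, h9]
  obtain ⟨v, hv⟩ : ∃ v : V, v ≠ 1 := by
    by_contra h
    push Not at h
    haveI : Subsingleton V := ⟨fun a b => (h a).trans (h b).symm⟩
    rw [Nat.card_of_subsingleton (1 : V)] at h9
    omega
  have hT16 : Nat.card T ≤ 16 := by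
    have := horbit v hv; have := hmax v hv; omega
  have hj8 : 8 ≤ (sqSub T).index := by
    rw [hj]; calc 8 = 2 ^ 3 := by norm_num
      _ ≤ 2 ^ j := Nat.pow_le_pow_right (by norm_num) hj3
  have hsq2 : Nat.card (sqSub T) ≤ 2 := by
    by_contra h
    have := Nat.mul_le_mul hj8 (by omega : 3 ≤ Nat.card (sqSub T))
    omega
  rcases Nat.lt_or_ge (Nat.card (sqSub T)) 2 with h1 | h1
  · -- exponent two
    have hbot : sqSub T = ⊥ := Subgroup.eq_bot_of_card_eq _ (by have := Nat.card_pos (α := sqSub T); omega)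
    refine hna fun a b => ?_
    have := commutator_mem_sqSub a b
    rw [hbot, Subgroup.mem_bot] at this
    exact mul_inv_eq_iff_eq_mul.1 (mul_inv_eq_one.1 this)
  have hsqc : Nat.card (sqSub T) = 2 := by omega
  have hT16' : Nat.card T = 16 := by
    have := Nat.mul_le_mul hj8 (le_of_eq hsqc.symm); omega
  obtain ⟨c, hc1, hc⟩ := (Nat.card_eq_two_iff' (1 : sqSub T)).1 hsqc
  have hcn : ∀ s : T, s * (c : T) = c * s := by
    intro s
    haveI := sqSub_normal (T := T)
    have hne : (⟨s * c * s⁻¹, ‹(sqSub T).Normal›.conj_mem _ c.2 s⟩ : sqSub T) ≠ 1 := by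
      intro h
      apply hc1
      have h' : s * (c : T) * s⁻¹ = 1 := congrArg Subtype.val h
      apply Subtype.ext
      calc (c : T) = s⁻¹ * (s * c * s⁻¹) * s := by group
        _ = 1 := by rw [h']; group
    exact mul_inv_eq_iff_eq_mul.1 (congrArg Subtype.val (hc _ hne))
  have hc2 : (c : T) ^ 2 = 1 := by
    have := pow_card_eq_one' (x := c)
    rw [hsqc] at this
    exact congrArg Subtype.val this
  have hinv := hcentral c hc2 hcn (fun h => hc1 (Subtype.ext h))
  have hmem : ∀ x : T, x ∈ sqSub T → x = 1 ∨ ∀ u, (x : MulAut V) u = u⁻¹ := by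
    intro x hx
    by_cases h : (⟨x, hx⟩ : sqSub T) = 1
    · exact Or.inl (congrArg Subtype.val h)
    · right
      rw [show x = (c : T) from congrArg Subtype.val (hc _ h)]
      exact hinv
  have hne1 : ∀ u : V, u ≠ 1 → u ≠ u⁻¹ := fun u hu h => hu (eq_one_of_sq hodd u (by
    rw [pow_two]; nth_rw 2 [h]; exact mul_inv_cancel u))
  -- transitivity
  have htrans : ∀ u : V, u ≠ 1 → ∃ s : T, (s : MulAut V) v = u := by
    intro u hu
    have hle : Nat.card {u : V // u ≠ 1} ≤ Nat.card {u : V // ∃ s : T, (s : MulAut V) v = u} := by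
      have := horbit v hv; omega
    have hbij : Function.Surjective
        (fun x : {u : V // ∃ s : T, (s : MulAut V) v = u} => (⟨x.1, by
          obtain ⟨s, hs⟩ := x.2
          intro h
          exact hv ((s : MulAut V).injective (by rw [hs, h, map_one]))⟩ : {u : V // u ≠ 1})) :=
      ((Nat.bijective_iff_injective_and_card _).2
        ⟨fun a b e => Subtype.ext (by simpa using e), le_antisymm (hmax v hv) hle⟩).2
    obtain ⟨x, hx⟩ := hbij ⟨u, hu⟩
    obtain ⟨s, hs⟩ := x.2
    exact ⟨s, hs.trans (congrArg Subtype.val hx)⟩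
  -- an element fixing `v`
  obtain ⟨t, htv, ht1⟩ : ∃ t : T, (t : MulAut V) v = v ∧ t ≠ 1 := by
    by_contra h
    push Not at h
    have hinj : Function.Injective (fun s : T =>
        (⟨(s : MulAut V) v, s, rfl⟩ : {u : V // ∃ s : T, (s : MulAut V) v = u})) := by
      intro a b e
      have e' : (a : MulAut V) v = (b : MulAut V) v := congrArg Subtype.val e
      refine inv_mul_eq_one.1 (h (a⁻¹ * b) ?_)
      show (a : MulAut V)⁻¹ ((b : MulAut V) v) = v
      rw [← e']; exact (a : MulAut V).symm_apply_apply v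
    have := Nat.card_le_card_of_injective _ hinj
    have := hmax v hv
    omega
  have htu : ∀ u ∉ Subgroup.zpowers v, (t : MulAut V) u = u⁻¹ := by
    intro u hu
    have hu1 : u ≠ 1 := fun h => hu (h ▸ one_mem _)
    obtain ⟨s, hs⟩ := htrans u hu1
    have hconj : ((s * t * s⁻¹ : T) : MulAut V) u = u := by
      show (s : MulAut V) ((t : MulAut V) ((s : MulAut V)⁻¹ u)) = u
      rw [show (s : MulAut V)⁻¹ u = v by rw [← hs]; exact (s : MulAut V).symm_apply_apply v, htv, hs]
    rcases hmem _ (commutator_mem_sqSub s t) with h | h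
    · have h' : s * t * s⁻¹ = t := mul_inv_eq_one.1 h
      rw [h'] at hconj
      exact absurd ((horder v hv).2 u hu t htv hconj) ht1
    · have ht2 : (t : MulAut V) ((t : MulAut V) u) = u := by
        rcases hmem _ (sq_mem_sqSub t) with h2 | h2
        · show ((t : MulAut V) * (t : MulAut V)) u = u
          rw [← pow_two, ← SubmonoidClass.coe_pow, h2]; rfl
        · exfalso
          have h3 := h2 v
          rw [SubmonoidClass.coe_pow, pow_two, MulAut.mul_apply, htv, htv] at h3
          exact hne1 v hv h3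
      have h3 := h ((t : MulAut V) u)
      have e : ((s * t * s⁻¹ * t⁻¹ : T) : MulAut V) ((t : MulAut V) u) = ((s * t * s⁻¹ : T) : MulAut V) u := by
        show ((s * t * s⁻¹ : T) : MulAut V) ((t : MulAut V)⁻¹ ((t : MulAut V) u)) = _
        rw [show (t : MulAut V)⁻¹ ((t : MulAut V) u) = u from (t : MulAut V).symm_apply_apply u]
      rw [e, hconj] at h3
      exact inv_eq_iff_eq_inv.1 h3.symm
  obtain ⟨w, hw⟩ : ∃ w, w ∉ Subgroup.zpowers v := by
    by_contra h
    push Not at h
    exact hnc ⟨⟨v, h⟩⟩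
  have hwv : w * v ∉ Subgroup.zpowers v := fun h =>
    hw (by simpa using mul_mem h (inv_mem (Subgroup.mem_zpowers v)))
  have h1 := htu _ hwv
  rw [map_mul, htu w hw, htv, mul_inv] at h1
  exact hne1 v hv (mul_left_cancel h1)

end

theorem bound_all (a : ℕ) : Stmt.{u} a := by
  induction a using Nat.strong_induction_on with
  | _ a IH =>
  intro V _ _ hodd hcard ha T hT
  classical
  subst ha
  haveI : Fact (Nat.Prime 2) := ⟨Nat.prime_two⟩
  have h3 : 3 ≤ Nat.card V := by
    obtain ⟨k, hk⟩ := hodd; omega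
  have hcs : ∀ t : T, ((t : MulAut V) = 1 → t = 1) := fun t h => Subtype.ext h
  obtain ⟨A, ⟨hAn, hAc⟩, hmax⟩ := (Set.toFinite {B : Subgroup T | B.Normal ∧ IsMulCommutative B}).exists_maximalFor
    (fun B : Subgroup T => B) _ ⟨⊥, inferInstance, ⟨⟨fun a b => Subsingleton.elim _ _⟩⟩⟩
  haveI := hAn
  have hCA : Subgroup.centralizer (A : Set T) = A :=
    CfsgLib.PGroup.centralizer_eq_of_maximal_normal_abelian hT A hAc
      (fun B hBn hBc hle => le_antisymm (hmax ⟨hBn, hBc⟩ hle) hle)
  have hAcomm : ∀ a ∈ A, ∀ b ∈ A, a * b = b * a := fun a ha b hb =>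
    congrArg Subtype.val (hAc.is_comm.comm (⟨a, ha⟩ : A) ⟨b, hb⟩)
  by_cases hspl : ∃ t ∈ A, t ^ 2 = 1 ∧ t ≠ 1 ∧ ¬ ∀ v, (t : MulAut V) v = v⁻¹
  · -- an involution other than inversion in `A`
    set E : Subgroup T :=
      { carrier := {x | x ∈ A ∧ x ^ 2 = 1}
        one_mem' := ⟨one_mem _, one_pow 2⟩
        mul_mem' := fun {a b} ha hb => ⟨A.mul_mem ha.1 hb.1, by
          rw [Commute.mul_pow (hAcomm a ha.1 b hb.1), ha.2, hb.2, one_mul]⟩
        inv_mem' := fun {a} ha => ⟨A.inv_mem ha.1, by rw [inv_pow, ha.2, inv_one]⟩ }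
    set Z : Subgroup T :=
      { carrier := {x | x ∈ E ∧ (x = 1 ∨ ∀ v, (x : MulAut V) v = v⁻¹)}
        one_mem' := ⟨one_mem _, Or.inl rfl⟩
        mul_mem' := fun {a b} ha hb => ⟨E.mul_mem ha.1 hb.1, by
          rcases ha.2 with rfl | ha'
          · rw [one_mul]; exact hb.2
          rcases hb.2 with rfl | hb'
          · rw [mul_one]; exact Or.inr ha'
          · exact Or.inl (Subtype.ext (MulEquiv.ext fun v => by
              show (a : MulAut V) ((b : MulAut V) v) = v
              rw [hb', map_inv, ha', inv_inv]))⟩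
        inv_mem' := fun {a} ha => ⟨E.inv_mem ha.1, by
          rcases ha.2 with rfl | ha'
          · exact Or.inl inv_one
          · exact Or.inr fun v => by
              show (a : MulAut V)⁻¹ v = v⁻¹
              apply (a : MulAut V).injective
              rw [show (a : MulAut V) ((a : MulAut V)⁻¹ v) = v from (a : MulAut V).apply_symm_apply v,
                map_inv, ha', inv_inv]⟩ }
    haveI hEn : E.Normal := ⟨fun x hx g => ⟨hAn.conj_mem x hx.1 g, by
      rw [conj_pow, hx.2, mul_one, mul_inv_cancel]⟩⟩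
    haveI : Z.Normal := ⟨fun x hx g => ⟨hEn.conj_mem x hx.1 g, by
      rcases hx.2 with rfl | h
      · exact Or.inl (by group)
      · right
        intro v
        show (g : MulAut V) ((x : MulAut V) ((g : MulAut V)⁻¹ v)) = v⁻¹
        rw [h, map_inv, show (g : MulAut V) ((g : MulAut V)⁻¹ v) = v from (g : MulAut V).apply_symm_apply v]⟩⟩
    obtain ⟨t₀, ht₀A, ht₀2, ht₀1, ht₀z⟩ := hspl
    have hlt : Z < E := lt_of_le_of_ne (fun x hx => hx.1) fun e => by
      have hmem : t₀ ∈ Z := e ▸ (⟨ht₀A, ht₀2⟩ : t₀ ∈ E)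
      rcases hmem.2 with h | h
      exacts [ht₀1 h, ht₀z h]
    obtain ⟨t, htE, htZ, -, htc⟩ := CfsgLib.PGroup.exists_step hT Z E hlt
    have ht1 : t ≠ 1 := fun h => htZ (h ▸ one_mem Z)
    have htz : ¬ ∀ v, (t : MulAut V) v = v⁻¹ := fun h => htZ ⟨htE, Or.inr h⟩
    have htt : ∀ v, (t : MulAut V) ((t : MulAut V) v) = v := by
      intro v
      have := congrArg (fun x : T => (x : MulAut V) v) htE.2
      simpa [pow_two] using this
    have ht1' : (t : MulAut V) ≠ 1 := fun h => ht1 (hcs t h)
    set C := Subgroup.centralizer ({t} : Set T) with hC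
    have hconj : ∀ s : T, s * t * s⁻¹ = t ∨ ∀ v, ((s * t * s⁻¹ : T) : MulAut V) v = ((t : MulAut V) v)⁻¹ := by
      intro s
      have h := htc s
      rcases h.2 with h1 | h1
      · left
        rw [commutatorElement_eq_one_iff_mul_comm] at h1
        rw [← h1, mul_inv_cancel_right]
      · right
        intro v
        have e : s * t * s⁻¹ = (t * s * t⁻¹ * s⁻¹)⁻¹ * t := by group
        rw [e, show t * s * t⁻¹ * s⁻¹ = ⁅t, s⁆ from rfl]
        show ((⁅t, s⁆⁻¹ : T) : MulAut V) ((t : MulAut V) v) = _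
        apply ((⁅t, s⁆ : T) : MulAut V).injective
        conv_rhs => rw [map_inv, h1, inv_inv]
        exact ((⁅t, s⁆ : T) : MulAut V).apply_symm_apply _
    by_cases hall : ∀ s : T, s * t = t * s
    · obtain ⟨g₁, g₂, hle, b1, b2, a1, a2, hm⟩ := bound_of_involution T hT hodd IH (t : MulAut V) htt ht1' htz
        (fun s hs => congrArg Subtype.val (hall ⟨s, hs⟩))
      rw [← hm]
      exact (b1.mul b2 a1 a2).mono hle
    · push Not at hall
      obtain ⟨s, hs⟩ := hall
      have hsconj : ∀ v, ((s * t * s⁻¹ : T) : MulAut V) v = ((t : MulAut V) v)⁻¹ :=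
        (hconj s).resolve_left fun h => hs (mul_inv_eq_iff_eq_mul.1 h)
      set U := C.map T.subtype with hU
      have hUC : (sqSub C).index = (sqSub U).index :=
        index_sqSub_congr (C.equivMapOfInjective _ T.subtype_injective)
      obtain ⟨g₁, g₂, hle, b1, b2, a1, a2, hm⟩ := bound_of_involution U
        ((hT.to_subgroup C).of_equiv (C.equivMapOfInjective _ T.subtype_injective)) hodd IH
        (t : MulAut V) htt ht1' htz (fun r hr => by
          obtain ⟨r', hr', rfl⟩ := hr
          exact congrArg Subtype.val (Subgroup.mem_centralizer_singleton_iff.1 hr'))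
      have hidx : C.index ≤ 2 := by
        rw [hC, Subgroup.index]
        let f : T ⧸ C → Bool := fun q => decide (q.out * t * q.out⁻¹ = t)
        refine (Nat.card_le_card_of_injective f fun q₁ q₂ e => ?_).trans (by simp)
        rw [← q₁.out_eq', ← q₂.out_eq']
        refine (QuotientGroup.eq (s := C)).2 (Subgroup.mem_centralizer_singleton_iff.2 ?_)
        have hiff : q₁.out * t * q₁.out⁻¹ = t ↔ q₂.out * t * q₂.out⁻¹ = t := by simpa [f] using e
        have heq : q₁.out * t * q₁.out⁻¹ = q₂.out * t * q₂.out⁻¹ := by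
          rcases hconj q₁.out with h1 | h1
          · rw [h1, hiff.1 h1]
          · rcases hconj q₂.out with h2 | h2
            · rw [hiff.2 h2, h2]
            · exact Subtype.ext (MulEquiv.ext fun v => (h1 v).trans (h2 v).symm)
        calc q₁.out⁻¹ * q₂.out * t = q₁.out⁻¹ * (q₂.out * t * q₂.out⁻¹) * q₂.out := by group
          _ = t * (q₁.out⁻¹ * q₂.out) := by rw [← heq]; group
      -- `s` interchanges the two parts
      have hsP : ∀ w, w ∈ plusPart (t : MulAut V) ↔ (s : MulAut V) w ∈ minusPart (t : MulAut V) := by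
        intro w
        have e : ((s * t * s⁻¹ : T) : MulAut V) ((s : MulAut V) w) = (s : MulAut V) ((t : MulAut V) w) := by
          show (s : MulAut V) ((t : MulAut V) ((s : MulAut V)⁻¹ ((s : MulAut V) w))) = _
          rw [show (s : MulAut V)⁻¹ ((s : MulAut V) w) = w from (s : MulAut V).symm_apply_apply w]
        rw [hsconj, inv_eq_iff_eq_inv] at e
        show (t : MulAut V) w = w ↔ (t : MulAut V) ((s : MulAut V) w) = ((s : MulAut V) w)⁻¹
        rw [e, inv_inj, (s : MulAut V).injective.eq_iff]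
      have hsw : Nat.card (plusPart (t : MulAut V)) = Nat.card (minusPart (t : MulAut V)) :=
        Nat.card_congr ((s : MulAut V).toEquiv.subtypeEquiv hsP)
      have hgle : (sqSub T).index ≤ 2 * (g₁ * g₂) :=
        (index_sqSub_le_subgroup C).trans (Nat.mul_le_mul hidx (hUC.le.trans hle))
      rw [← hsw] at b2 hm
      rw [← hm]
      by_cases h3' : Nat.card (plusPart (t : MulAut V)) = 3
      · -- order nine
        rw [h3'] at hm b1 b2 ⊢
        have hg1 : g₁ ≤ 2 := by rcases b1 with ⟨-, h⟩ | h <;> omega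
        have hg2 : g₂ ≤ 2 := by rcases b2 with ⟨-, h⟩ | h <;> omega
        right
        have hgT : (sqSub T).index ≤ 4 := by
          by_cases hna : ∀ a b : T, a * b = b * a
          · exact absurd (hna s t) hs
          by_cases hct : ∀ x : T, x ^ 2 = 1 → (∀ r : T, r * x = x * r) → x ≠ 1 → ∀ v, (x : MulAut V) v = v⁻¹
          · refine bound_nine hm.symm ?_ T hT hna hct
            intro hcyc
            exact hna fun a b => Subtype.ext (mulAut_comm_of_cyclic _ _)
          · push Not at hct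
            obtain ⟨x, hx2, hxc, hx1, hxz⟩ := hct
            have hxx : ∀ v, (x : MulAut V) ((x : MulAut V) v) = v := fun v => by
              simpa [pow_two] using congrArg (fun y : T => (y : MulAut V) v) hx2
            obtain ⟨e₁, e₂, hle', c1, c2, d1, d2, hm'⟩ := bound_of_involution T hT hodd IH (x : MulAut V) hxx
              (fun h => hx1 (hcs x h)) (by push Not; exact hxz) (fun r hr => congrArg Subtype.val (hxc ⟨r, hr⟩))
            have hb := c1.mul c2 d1 d2
            rw [hm', ← hm] at hb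
            refine hle'.trans ?_
            rcases hb with ⟨h, -⟩ | h <;> omega
        omega
      · exact (b1.swap b2 h3').mono hgle
  · -- `A` is cyclic
    push Not at hspl
    have huniq : ∀ H K : Subgroup A, Nat.card H = 2 → Nat.card K = 2 → H = K := by
      intro H K hH hK
      have hgen : ∀ K : Subgroup A, Nat.card K = 2 → ∀ x ∈ K, x ≠ 1 → ∀ v, ((x : T) : MulAut V) v = v⁻¹ := by
        intro K hK x hx hx1
        refine hspl x x.2 ?_ (fun h => hx1 (Subtype.ext h))
        have := pow_card_eq_one' (x := (⟨x, hx⟩ : K))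
        rw [hK] at this
        simpa using congrArg (fun y : K => ((y : A) : T)) this
      obtain ⟨a, ha, ha'⟩ := (Nat.card_eq_two_iff' (1 : H)).1 hH
      obtain ⟨b, hb, hb'⟩ := (Nat.card_eq_two_iff' (1 : K)).1 hK
      have hab : (a : A) = b := Subtype.ext (Subtype.ext (MulEquiv.ext fun v => by
        rw [hgen H hH a a.2 (fun h => ha (Subtype.ext h)) v, hgen K hK b b.2 (fun h => hb (Subtype.ext h)) v]))
      ext x
      constructor
      · intro hx
        by_cases h1 : x = 1
        · rw [h1]; exact one_mem K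
        · rw [show x = a from congrArg Subtype.val (ha' ⟨x, hx⟩ fun h => h1 (congrArg Subtype.val h)), hab]
          exact b.2
      · intro hx
        by_cases h1 : x = 1
        · rw [h1]; exact one_mem H
        · rw [show x = b from congrArg Subtype.val (hb' ⟨x, hx⟩ fun h => h1 (congrArg Subtype.val h)), ← hab]
          exact a.2
    have hAcyc : IsCyclic A := by
      rcases Cfsg.Agent.S0016.result 2 (hT.to_subgroup A) huniq with h | ⟨-, n, ⟨e⟩⟩
      · exact h
      · rcases n.eq_zero_or_pos with rfl | hn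
        · haveI : IsCyclic (QuaternionGroup (2 ^ 0)) := by
            rw [pow_zero]; exact QuaternionGroup.quaternionGroup_one_isCyclic
          exact e.symm.isCyclic.1 ‹_›
        exfalso
        have hc : ∀ a b : A, a * b = b * a := fun a b => Subtype.ext (hAcomm a a.2 b b.2)
        have := hc (e.symm (QuaternionGroup.a 1)) (e.symm (QuaternionGroup.xa 0))
        rw [← map_mul, ← map_mul, e.symm.injective.eq_iff, QuaternionGroup.a_mul_xa,
          QuaternionGroup.xa_mul_a] at this
        simp at this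
        haveI hfact : Fact (2 < 2 * 2 ^ n) := ⟨by
          have := Nat.pow_le_pow_right (n := 2) (by norm_num) hn; omega⟩
        exact ZMod.neg_one_ne_one (n := 2 * 2 ^ n) (by simpa using this)
    let c : T →* MulAut A := MulAut.conjNormal
    have hker : c.ker = A := by
      ext x
      refine MonoidHom.mem_ker.trans (Iff.trans ?_ (SetLike.ext_iff.1 hCA x))
      rw [Subgroup.mem_centralizer_iff]
      constructor
      · intro h a ha
        have h' : x * a * x⁻¹ = a := by
          simpa [c] using congrArg Subtype.val (DFunLike.congr_fun h (⟨a, ha⟩ : A))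
        exact (mul_inv_eq_iff_eq_mul.1 h').symm
      · intro h
        refine MulEquiv.ext fun a => Subtype.ext ?_
        show x * a * x⁻¹ = a
        rw [← h a a.2, mul_inv_cancel_right]
    have h2 : (sqSub c.ker).index ≤ 2 := by
      rw [index_sqSub_congr (MulEquiv.subgroupCongr hker)]
      exact index_sqSub_cyclic_le
    have h4 : (sqSub c.range).index ≤ 4 := by
      refine (index_sqSub_comm_le fun a b => Subtype.ext (mulAut_comm_of_cyclic _ _)).trans ?_
      refine le_trans ?_ (sq_mulAut_cyclic_le_four (hT.to_subgroup A))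
      refine Nat.card_le_card_of_injective (fun x => (⟨x.1.1, by simpa using congrArg Subtype.val x.2⟩ :
        {σ : MulAut A // σ ^ 2 = 1})) fun x y e => Subtype.ext (Subtype.ext (by simpa using e))
    have hg8 : (sqSub T).index ≤ 8 :=
      (index_sqSub_le_ker_mul_range c).trans (Nat.mul_le_mul h4 h2)
    by_cases hcomm : ∀ a b : T, a * b = b * a
    · have hAtop : A = ⊤ := by
        rw [← hCA, eq_top_iff]
        exact fun x _ => Subgroup.mem_centralizer_iff.2 fun a _ => hcomm a x
      have hg2 : (sqSub T).index ≤ 2 := by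
        rw [← index_sqSub_congr ((MulEquiv.subgroupCongr hAtop).trans Subgroup.topEquiv)]
        exact index_sqSub_cyclic_le
      rcases h3.eq_or_lt with h | h
      · exact Or.inl ⟨h.symm, hg2⟩
      · exact Or.inr (by omega)
    · have hnotcyc : ¬ IsCyclic V := fun _ => hcomm fun a b => Subtype.ext (mulAut_comm_of_cyclic _ _)
      right
      rcases Nat.lt_or_ge (Nat.card V) 16 with hlt | hge
      · obtain ⟨k, hk⟩ := hodd
        by_cases h9 : Nat.card V = 9
        · have hodd' : Odd (Nat.card V) := ⟨k, hk⟩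
          have hct : ∀ x : T, x ^ 2 = 1 → (∀ r : T, r * x = x * r) → x ≠ 1 → ∀ v, (x : MulAut V) v = v⁻¹ := by
            intro x hx2 hxc hx1
            have hxA : x ∈ A := by
              rw [← hCA, Subgroup.mem_centralizer_iff]
              exact fun a _ => hxc a
            exact hspl x hxA hx2 hx1
          have := bound_nine h9 hnotcyc T hT hcomm hct
          omega
        · exact absurd (isCyclic_of_small rfl (by omega)) hnotcyc
      · omega

/-- The bound in the form used. -/
theorem index_sqSub_le {V : Type u} [CommGroup V] [Finite V] (hodd : Odd (Nat.card V))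
    (hV : 1 < Nat.card V) (T : Subgroup (MulAut V)) (hT : IsPGroup 2 T) :
    (sqSub T).index ≤ Nat.card V - 1 :=
  (bound_all (Nat.card V) V hodd hV rfl T hT).lt hV

end CfsgLib.TwoGroupAct
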