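import Mathlib.GroupTheory.Index
import Mathlib.GroupTheory.QuotientGroup.Basic

/-!
# The index of the subgroup generated by the squares
-/

set_option autoImplicit false

namespace CfsgLib.TwoGroupAct

variable {T T' : Type*} [Group T] [Group T']

/-- The subgroup generated by the squares. -/
def sqSub (T : Type*) [Group T] : Subgroup T := Subgroup.closure (Set.range fun x : T => x ^ 2)

theorem sq_mem_sqSub (x : T) : x ^ 2 ∈ sqSub T := Subgroup.subset_closure ⟨x, rfl⟩

theorem map_sqSub_le (f : T →* T') : (sqSub T).map f ≤ sqSub T' := by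
  rw [sqSub, MonoidHom.map_closure, Subgroup.closure_le]
  rintro _ ⟨_, ⟨x, rfl⟩, rfl⟩
  rw [map_pow]
  exact sq_mem_sqSub (f x)

theorem map_sqSub_eq (f : T →* T') (hf : Function.Surjective f) :
    (sqSub T).map f = sqSub T' := by
  refine le_antisymm (map_sqSub_le f) ((Subgroup.closure_le _).2 ?_)
  rintro _ ⟨y, rfl⟩
  obtain ⟨x, rfl⟩ := hf y
  exact ⟨x ^ 2, sq_mem_sqSub x, map_pow f x 2⟩

theorem sqSub_normal : (sqSub T).Normal := by
  refine ⟨fun x hx g => ?_⟩
  exact map_sqSub_le (MulAut.conj g).toMonoidHom ⟨x, hx, rfl⟩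

theorem index_sqSub_le_of_surjective [Finite T] (f : T →* T') (hf : Function.Surjective f) :
    (sqSub T').index ≤ (sqSub T).index := by
  rw [← map_sqSub_eq f hf]
  exact Nat.le_of_dvd (Nat.pos_of_ne_zero Subgroup.index_ne_zero_of_finite)
    (Subgroup.index_map_dvd _ hf)

theorem index_sqSub_congr [Finite T] [Finite T'] (e : T ≃* T') :
    (sqSub T).index = (sqSub T').index :=
  le_antisymm (index_sqSub_le_of_surjective e.symm.toMonoidHom e.symm.surjective)
    (index_sqSub_le_of_surjective e.toMonoidHom e.surjective)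

theorem index_sqSub_le_subgroup [Finite T] (U : Subgroup T) :
    (sqSub T).index ≤ U.index * (sqSub U).index := by
  have h : (sqSub T).index ≤ ((sqSub U).map U.subtype).index :=
    Nat.le_of_dvd (Nat.pos_of_ne_zero Subgroup.index_ne_zero_of_finite)
      (Subgroup.index_dvd_of_le (map_sqSub_le U.subtype))
  rwa [Subgroup.index_map_subtype, mul_comm] at h

theorem index_sqSub_le_ker_mul_range [Finite T] (f : T →* T') :
    (sqSub T).index ≤ (sqSub f.range).index * (sqSub f.ker).index := by
  haveI := sqSub_normal (T := T)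
  have h1 : (sqSub T ⊔ f.ker).index = (sqSub f.range).index := by
    rw [← map_sqSub_eq f.rangeRestrict f.rangeRestrict_surjective, Subgroup.index_map,
      MonoidHom.ker_rangeRestrict, MonoidHom.range_eq_top.2 f.rangeRestrict_surjective,
      Subgroup.index_top, mul_one]
  have h2 : (sqSub T).relIndex (sqSub T ⊔ f.ker) ≤ (sqSub f.ker).index := by
    rw [Subgroup.relIndex_sup_left, Subgroup.relIndex]
    exact Nat.le_of_dvd (Nat.pos_of_ne_zero Subgroup.index_ne_zero_of_finite)
      (Subgroup.index_dvd_of_le fun x hx => map_sqSub_le f.ker.subtype ⟨x, hx, rfl⟩)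
  rw [← Subgroup.relIndex_mul_index (le_sup_left : sqSub T ≤ sqSub T ⊔ f.ker), h1, mul_comm]
  exact Nat.mul_le_mul_left _ h2

end CfsgLib.TwoGroupAct
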